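import Groth.Agent.MorLib.RingUnivHomeoTower
import Mathlib.AlgebraicGeometry.Morphisms.Proper
import Mathlib.AlgebraicGeometry.Morphisms.UniversallyInjective
import Mathlib.Algebra.CharP.Lemmas
import Mathlib.Algebra.Algebra.Subalgebra.Tower

/-!
In characteristic `p`, a section on a proper surjective cover of an affine scheme which satisfies the descent
condition descends after taking a `p`-power.
-/

set_option backward.isDefEq.respectTransparency false
set_option backward.isDefEq.respectTransparency.types false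

universe u

namespace Groth.Agent.HTopFrob

open CategoryTheory Limits AlgebraicGeometry Scheme Groth.Agent.MorLib Groth.Agent.MorLib.RUH

theorem add_pow_p {R : Type*} [CommRing R] {p : ℕ} (hp : p.Prime) (h : (p : R) = 0) (a b : R) (n : ℕ) :
    (a + b) ^ p ^ n = a ^ p ^ n + b ^ p ^ n := by
  rcases subsingleton_or_nontrivial R with h' | h'
  · exact Subsingleton.elim _ _
  · haveI : Fact p.Prime := ⟨hp⟩
    haveI : CharP R p := (CharP.charP_iff_prime_eq_zero hp).mpr h
    exact add_pow_char_pow a b p n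

theorem sub_pow_p {R : Type*} [CommRing R] {p : ℕ} (hp : p.Prime) (h : (p : R) = 0) (a b : R) (n : ℕ) :
    (a - b) ^ p ^ n = a ^ p ^ n - b ^ p ^ n := by
  rw [eq_sub_iff_add_eq, ← add_pow_p hp h, sub_add_cancel]

theorem pow_p_eq_of_isNilpotent_sub {R : Type*} [CommRing R] {p : ℕ} (hp : p.Prime) (h : (p : R) = 0) {a b : R}
    (hn : IsNilpotent (a - b)) : ∃ N : ℕ, a ^ p ^ N = b ^ p ^ N := by
  obtain ⟨k, hk⟩ := hn
  exact ⟨k, by rw [← sub_eq_zero, ← sub_pow_p hp h]; exact pow_eq_zero_of_le (Nat.lt_pow_self hp.one_lt).le hk⟩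

variable {A B : Type u} [CommRing A] [CommRing B] [Algebra A B]

/-- An integral radicial extension in characteristic `p` is exhausted by `p`-power roots. -/
theorem exists_pow_mem_range [Algebra.IsIntegral A B] (hr : Radicial (algebraMap A B)) {p : ℕ} (hp : p.Prime)
    (h : (p : B) = 0) (b : B) : ∃ N : ℕ, b ^ p ^ N ∈ (algebraMap A B).range := by
  have hmono : ∀ {x : B} {n m : ℕ}, n ≤ m → x ^ p ^ n ∈ (algebraMap A B).range → x ^ p ^ m ∈ (algebraMap A B).range :=
    fun {x n m} hnm hx => by rw [← Nat.add_sub_of_le hnm, pow_add, pow_mul]; exact pow_mem hx _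
  let T : Subalgebra A B :=
    { carrier := {x | ∃ N : ℕ, x ^ p ^ N ∈ (algebraMap A B).range}
      mul_mem' := fun {x y} ⟨n, hn⟩ ⟨m, hm⟩ => ⟨n + m, by
        rw [mul_pow]; exact mul_mem (hmono (Nat.le_add_right n m) hn) (hmono (Nat.le_add_left m n) hm)⟩
      add_mem' := fun {x y} ⟨n, hn⟩ ⟨m, hm⟩ => ⟨n + m, by
        rw [add_pow_p hp h]; exact add_mem (hmono (Nat.le_add_right n m) hn) (hmono (Nat.le_add_left m n) hm)⟩
      algebraMap_mem' := fun a => ⟨0, by rw [pow_zero, pow_one]; exact ⟨a, rfl⟩⟩ }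
  suffices hT : T = ⊤ by
    exact show b ∈ T by rw [hT]; trivial
  by_contra hT
  obtain ⟨b₀, hb₀⟩ : ∃ b₀, b₀ ∉ T := by
    by_contra H; push Not at H
    exact hT (eq_top_iff.mpr fun x _ => H x)
  haveI : Algebra.IsIntegral T B := Algebra.IsIntegral.tower_top A
  have hrT : Radicial (algebraMap T B) := fun K _ f g e => hr K f g (by
    rw [IsScalarTower.algebraMap_eq A T B, ← RingHom.comp_assoc, e, RingHom.comp_assoc])
  obtain ⟨x, hx, hcase⟩ := exists_step (A := T) (B := B) Subtype.val_injective (injective_comap_of_radicial hrT)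
    (fun e => e = p) (fun e he => he ▸ hp.two_le) (fun q y => by
      obtain ⟨e, he, hrest⟩ := exists_pow_of_radicial (φ := algebraMap T B) hrT q y
      refine ⟨e, he.imp_right (fun ⟨hprime, hmem⟩ => ⟨?_, hmem⟩), hrest⟩
      by_contra hne
      refine q.2.ne_top (q.asIdeal.eq_top_iff_one.mpr ?_)
      obtain ⟨s, t, hst⟩ := Int.isCoprime_iff_gcd_eq_one.mpr
        (show Int.gcd (e : ℤ) (p : ℤ) = 1 by exact_mod_cast (Nat.coprime_primes hprime hp).mpr hne)
      have h1 := congrArg (fun z : ℤ => (z : B)) hst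
      simp only [Int.cast_add, Int.cast_mul, Int.cast_natCast, h, mul_zero, add_zero, Int.cast_one] at h1
      rw [← h1]
      exact Ideal.mul_mem_left _ _ hmem)
    b₀ (fun ⟨z, hz⟩ => hb₀ (hz ▸ z.2))
  have hxp : x ^ p ∈ T := by
    rcases hcase with ⟨⟨u, hu⟩, ⟨v, hv⟩⟩ | ⟨e, rfl, -, ⟨u, hu⟩⟩
    · have h2 : x ^ 2 ∈ T := hu ▸ u.2
      have h3 : x ^ 3 ∈ T := hv ▸ v.2
      rcases Nat.even_or_odd p with ⟨k, hk⟩ | ⟨k, hk⟩
      · rw [hk, ← two_mul, pow_mul]; exact pow_mem h2 k
      · obtain ⟨k', rfl⟩ : ∃ k', k = k' + 1 := ⟨k - 1, by have := hp.two_le; omega⟩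
        rw [hk, show 2 * (k' + 1) + 1 = 2 * k' + 3 by ring, pow_add, pow_mul]
        exact mul_mem (pow_mem h2 k') h3
    · exact hu ▸ u.2
  obtain ⟨N, hN⟩ := hxp
  refine hx ⟨⟨x, N + 1, ?_⟩, rfl⟩
  rwa [pow_succ', pow_mul]

/-- Descent of a section up to a `p`-power along a universally closed surjection to an affine scheme. -/
theorem exists_descend {X Y : Scheme.{u}} [IsAffine X] (π : Y ⟶ X) [UniversallyClosed π] [Surjective π]
    {p : ℕ} (hp : p.Prime) (h : (p : Γ(X, ⊤)) = 0) (s : Γ(Y, ⊤))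
    (hs : (pullback.fst π π).appTop s = (pullback.snd π π).appTop s) :
    ∃ (N : ℕ) (a : Γ(X, ⊤)), π.appTop a = s ^ p ^ N := by
  haveI : CompactSpace Y := QuasiCompact.compactSpace_of_compactSpace π
  letI := π.appTop.hom.toAlgebra
  haveI : Algebra.IsIntegral Γ(X, ⊤) Γ(Y, ⊤) := ⟨isIntegral_appTop_of_universallyClosed π⟩
  let B₀ : Subalgebra Γ(X, ⊤) Γ(Y, ⊤) := Algebra.adjoin Γ(X, ⊤) {s}
  haveI : Algebra.IsIntegral Γ(X, ⊤) B₀ :=
    ⟨fun b => (isIntegral_algHom_iff B₀.val Subtype.val_injective).mp (Algebra.IsIntegral.isIntegral (B₀.val b))⟩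
  let φ : Γ(X, ⊤) ⟶ CommRingCat.of B₀ := CommRingCat.ofHom (algebraMap Γ(X, ⊤) B₀)
  let ι : CommRingCat.of B₀ ⟶ Γ(Y, ⊤) := CommRingCat.ofHom B₀.val.toRingHom
  have hι : φ ≫ ι = π.appTop := CommRingCat.hom_ext (RingHom.ext fun a => rfl)
  let q : Y ⟶ Spec (CommRingCat.of B₀) := Y.toSpecΓ ≫ Spec.map ι
  let c : Spec (CommRingCat.of B₀) ⟶ X := Spec.map φ ≫ X.isoSpec.inv
  have hqc : q ≫ c = π := by
    simp only [q, c, Category.assoc, ← Spec.map_comp_assoc, hι]
    rw [← Scheme.toSpecΓ_naturality_assoc]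
    simp [Scheme.isoSpec]
  haveI : Surjective q := by
    haveI : UniversallyClosed (q ≫ c) := by rw [hqc]; infer_instance
    haveI : UniversallyClosed q := UniversallyClosed.of_comp_of_isSeparated q c
    haveI : Surjective (Spec.map ι) := (surjective_SpecMap_iff B₀.val.toRingHom).mpr
      ((RingHom.IsIntegral.tower_top (algebraMap Γ(X, ⊤) B₀) B₀.val.toRingHom
        (isIntegral_appTop_of_universallyClosed π)).comap_surjective Subtype.val_injective)
    haveI : IsDominant q := inferInstance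
    exact ⟨by rw [← Set.range_eq_univ, ← (q.isClosedMap.isClosed_range).closure_eq]; exact q.denseRange.closure_range⟩
  have hpr : pullback.fst π π ≫ q = pullback.snd π π ≫ q := by
    refine ext_of_isAffine ?_
    simp only [q, Scheme.Hom.comp_appTop, Category.assoc]
    have e : ι ≫ (pullback.fst π π).appTop = ι ≫ (pullback.snd π π).appTop := by
      refine CommRingCat.hom_ext (RingHom.ext fun b => ?_)
      obtain ⟨b, hb⟩ := b
      show (pullback.fst π π).appTop b = (pullback.snd π π).appTop b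
      induction hb using Algebra.adjoin_induction with
      | mem x hx => obtain rfl := Set.mem_singleton_iff.mp hx; exact hs
      | algebraMap a =>
        show ((π.appTop) ≫ (pullback.fst π π).appTop) a = (π.appTop ≫ (pullback.snd π π).appTop) a
        rw [← Scheme.Hom.comp_appTop, ← Scheme.Hom.comp_appTop, pullback.condition]
      | add x y _ _ hx hy => rw [map_add, map_add, hx, hy]
      | mul x y _ _ hx hy => rw [map_mul, map_mul, hx, hy]
    have e' : ∀ {W : Scheme.{u}} (g : W ⟶ Y),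
        (Spec.map ι).appTop ≫ Y.toSpecΓ.appTop ≫ g.appTop = (Scheme.ΓSpecIso _).hom ≫ ι ≫ g.appTop := fun g => by
      rw [Scheme.toSpecΓ_appTop, ← Scheme.ΓSpecIso_naturality_assoc]
    rw [e', e', e]
  haveI : UniversallyInjective c := by
    rw [UniversallyInjective.iff_diagonal]
    refine ⟨fun w => ?_⟩
    let m : pullback π π ⟶ pullback c c :=
      pullback.map π π c c q q (𝟙 X) (by rw [Category.comp_id, hqc]) (by rw [Category.comp_id, hqc])
    have hm : m = (pullback.fst π π ≫ q) ≫ pullback.diagonal c := by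
      apply pullback.hom_ext
      · simp [m]
      · simp [m, hpr]
    haveI : Surjective m :=
      MorphismProperty.pullback_map (P := @Surjective) (f := π) (g := π) (f' := c) (g' := c) ‹_› ‹_› hqc.symm hqc.symm
    obtain ⟨z, rfl⟩ := m.surjective w
    exact ⟨(pullback.fst π π ≫ q) z, by rw [hm]; simp⟩
  have hr : Radicial (algebraMap Γ(X, ⊤) B₀) := by
    rw [← universallyInjective_SpecMap_iff]
    exact (MorphismProperty.cancel_right_of_respectsIso (P := @UniversallyInjective) (Spec.map φ) X.isoSpec.inv).mp ‹_›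
  obtain ⟨N, a, ha⟩ := exists_pow_mem_range hr hp
    (by rw [← map_natCast (algebraMap Γ(X, ⊤) B₀), h, map_zero]) ⟨s, Algebra.subset_adjoin rfl⟩
  exact ⟨N, a, congrArg Subtype.val ha⟩

/-- Sections with the same inverse image along a surjection differ by a nilpotent. -/
theorem isNilpotent_of_appTop_eq_zero {X Y : Scheme.{u}} [CompactSpace X] (π : Y ⟶ X) [Surjective π] (a : Γ(X, ⊤))
    (ha : π.appTop a = 0) : IsNilpotent a := by
  rw [Scheme.isNilpotent_iff_basicOpen_eq_bot_of_isCompact (U := (⊤ : X.Opens)) isCompact_univ]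
  ext x
  refine ⟨fun hx => ?_, fun hx => hx.elim⟩
  obtain ⟨y, rfl⟩ := π.surjective x
  have : y ∈ Y.basicOpen (π.appTop a) := by rw [← Scheme.preimage_basicOpen_top]; exact hx
  rw [ha, Scheme.basicOpen_zero] at this
  exact this

end Groth.Agent.HTopFrob
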