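import Groth.Prelude.Def_W4stkflatp2Frob
import Groth.Prelude.Def_QuotSh
import Groth.Agent.HTopFrob.Descend
import Mathlib.AlgebraicGeometry.Morphisms.QuasiSeparated
import Mathlib.CategoryTheory.Sites.LocallySurjective

/-!
The colimit of the global sections along the Frobenius and its Zariski sheafification on quasi-compact
quasi-separated schemes.
-/

set_option backward.isDefEq.respectTransparency false
set_option backward.isDefEq.respectTransparency.types false

universe u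

namespace Groth.Agent.HTopFrob

open CategoryTheory Limits AlgebraicGeometry Scheme Opposite HTop

variable {p : ℕ} {X : Scheme.{u}}

/-- Two pairs give the same class. -/
def Rel (p : ℕ) (X : Scheme.{u}) (x y : ℕ × Γ(X, ⊤)) : Prop :=
  ∃ i j : ℕ, x.1 + i = y.1 + j ∧ x.2 ^ p ^ i = y.2 ^ p ^ j

theorem rel_refl (x : ℕ × Γ(X, ⊤)) : Rel p X x x := ⟨0, 0, rfl, rfl⟩

theorem rel_symm {x y : ℕ × Γ(X, ⊤)} : Rel p X x y → Rel p X y x := fun ⟨i, j, h, e⟩ => ⟨j, i, h.symm, e.symm⟩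

theorem rel_trans {x y z : ℕ × Γ(X, ⊤)} : Rel p X x y → Rel p X y z → Rel p X x z := by
  rintro ⟨i, j, h, e⟩ ⟨i', j', h', e'⟩
  refine ⟨i + i', j' + j, by omega, ?_⟩
  rw [pow_add, pow_mul, e, ← pow_mul, mul_comm, pow_mul, e', ← pow_mul, ← pow_add]

theorem mk_add (n i : ℕ) (a : Γ(X, ⊤)) :
    FrobColimSections.mk p n a = FrobColimSections.mk p (n + i) (a ^ p ^ i) := by
  induction i with
  | zero => simp
  | succ i ih => rw [ih, FrobColimSections.sound, ← pow_mul, ← pow_succ, Nat.add_assoc]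

theorem mk_eq_iff {n m : ℕ} {a b : Γ(X, ⊤)} :
    FrobColimSections.mk p n a = FrobColimSections.mk p m b ↔ Rel p X (n, a) (m, b) := by
  constructor
  · intro h
    have key : ∀ x y, Relation.EqvGen (FrobColimRel p X) x y → Rel p X x y := by
      intro x y hxy
      induction hxy with
      | rel x y h => subst h; exact ⟨1, 0, rfl, by simp⟩
      | refl x => exact rel_refl x
      | symm x y _ ih => exact rel_symm ih
      | trans x y z _ _ ih ih' => exact rel_trans ih ih'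
    exact key _ _ (Quot.eqvGen_exact h)
  · rintro ⟨i, j, h, e⟩
    rw [mk_add n i, mk_add m j]
    exact congrArg₂ (FrobColimSections.mk p) h e

theorem mk_eq_mk_iff {n : ℕ} {a b : Γ(X, ⊤)} :
    FrobColimSections.mk p n a = FrobColimSections.mk p n b ↔ ∃ i : ℕ, a ^ p ^ i = b ^ p ^ i := by
  rw [mk_eq_iff]
  constructor
  · rintro ⟨i, j, h, e⟩
    obtain rfl : i = j := by simpa using h
    exact ⟨i, e⟩
  · rintro ⟨i, e⟩; exact ⟨i, i, rfl, e⟩

theorem exists_common {ι : Type*} [Finite ι] {W : ι → Scheme.{u}} (x : ∀ i, FrobColimSections p (W i)) :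
    ∃ (N : ℕ) (a : ∀ i, Γ(W i, ⊤)), ∀ i, FrobColimSections.mk p N (a i) = x i := by
  classical
  have hrep : ∀ i, ∃ (n : ℕ) (b : Γ(W i, ⊤)), FrobColimSections.mk p n b = x i := fun i => by
    obtain ⟨⟨n, b⟩, h⟩ := Quot.mk_surjective (x i)
    exact ⟨n, b, h⟩
  choose n b hb using hrep
  obtain ⟨N, hN⟩ := Finite.exists_le n
  refine ⟨N, fun i => b i ^ p ^ (N - n i), fun i => ?_⟩
  rw [← hb i, mk_add (n i) (N - n i), Nat.add_sub_of_le (hN i)]

/-- A finite affine open covering. -/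
theorem exists_finite_affine_cover [CompactSpace X] (Pr : X.affineOpens → Prop)
    (h : ∀ x : X, ∃ U : X.affineOpens, x ∈ U.1 ∧ Pr U) :
    ∃ s : Finset X.affineOpens, (∀ U ∈ s, Pr U) ∧ ⨆ U : s, U.1.1 = ⊤ := by
  classical
  choose U hxU hU using h
  obtain ⟨t, ht⟩ := isCompact_univ.elim_finite_subcover (fun x => ((U x).1 : Set X)) (fun x => (U x).1.2)
    (fun x _ => Set.mem_iUnion.2 ⟨x, hxU x⟩)
  refine ⟨t.image U, fun V hV => ?_, top_le_iff.mp fun x _ => ?_⟩
  · obtain ⟨x, -, rfl⟩ := Finset.mem_image.mp hV; exact hU x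
  · obtain ⟨y, hy, hxy⟩ := Set.mem_iUnion₂.1 (ht (Set.mem_univ x))
    exact TopologicalSpace.Opens.mem_iSup.2 ⟨⟨U y, Finset.mem_image_of_mem U hy⟩, hxy⟩

theorem topIso_hom_appTop (U : X.Opens) (a : Γ(X, ⊤)) :
    U.topIso.hom (U.ι.appTop a) = X.presheaf.map (homOfLE (le_top : U ≤ ⊤)).op a := by
  rw [Scheme.Opens.ι_appTop]
  simp only [Scheme.Opens.topIso, Functor.mapIso_hom, ← CommRingCat.comp_apply, ← Functor.map_comp]
  rfl

variable {S : Scheme.{u}}

/-- Covering sieves contain an affine open neighbourhood of every point. -/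
theorem exists_affine_mem {T : Over S} {R : Sieve T} (hR : R ∈ QuotSh.J Scheme.zariskiPrecoverage S T) (x : T.left) :
    ∃ U : T.left.affineOpens, x ∈ U.1 ∧ R (Over.homMk U.1.ι : Over.mk (U.1.ι ≫ T.hom) ⟶ T) := by
  have hR' : Sieve.overEquiv _ R ∈ Scheme.zariskiPrecoverage.toGrothendieck T.left := hR
  rw [Precoverage.mem_toGrothendieck_iff_of_isStableUnderComposition] at hR'
  obtain ⟨R₀, hR₀, hle⟩ := hR'
  obtain ⟨ι, Z, φ, rfl⟩ := R₀.exists_eq_ofArrows
  obtain ⟨hs, ho⟩ := (Scheme.ofArrows_mem_precoverage_iff (P := @IsOpenImmersion)).1 hR₀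
  obtain ⟨i, y, hy⟩ := hs x
  haveI : IsOpenImmersion (φ i) := ho i
  obtain ⟨U, hU, hxU, hUle⟩ := exists_isAffineOpen_mem_and_subset (x := x) (U := (φ i).opensRange) ⟨y, hy⟩
  refine ⟨⟨U, hU⟩, hxU, ?_⟩
  have hmem := hle _ _ (Presieve.ofArrows.mk i)
  have h2 : (Sieve.overEquiv T R).arrows U.ι := by
    rw [← IsOpenImmersion.lift_fac (φ i) U.ι (by rw [Scheme.Opens.range_ι]; exact fun z hz => hUle hz)]
    exact (Sieve.overEquiv T R).downward_closed hmem _
  exact (Sieve.overEquiv_iff R U.ι).1 h2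

end Groth.Agent.HTopFrob
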