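import Groth.Agent.HTopFrob.ColimBasic
import Groth.Agent.HTopCov.OverCriterion

/-!
The Zariski sheafification of the colimit of the global sections along the Frobenius is an h sheaf.
-/

set_option backward.isDefEq.respectTransparency false
set_option backward.isDefEq.respectTransparency.types false

universe u

namespace Groth.Agent.HTopFrob

open CategoryTheory Limits AlgebraicGeometry Scheme Opposite HTop

variable {p : ℕ} {S : Scheme.{u}}

/-- Classes with equal restrictions to an open covering of a quasi-compact scheme are equal. -/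
theorem eq_of_locally {X : Scheme.{u}} [CompactSpace X] (hp : 0 < p) {x y : FrobColimSections p X}
    (s : Finset X.affineOpens) (hs : ⨆ U : s, U.1.1 = ⊤)
    (h : ∀ U ∈ s, FrobColimSections.map p U.1.ι x = FrobColimSections.map p U.1.ι y) : x = y := by
  obtain ⟨N, a, ha⟩ := exists_common (W := fun _ : Bool => X) (fun b => bif b then x else y)
  obtain rfl : FrobColimSections.mk p N (a true) = x := ha true
  obtain rfl : FrobColimSections.mk p N (a false) = y := ha false
  have h' : ∀ U : s, ∃ i : ℕ, U.1.1.ι.appTop (a true) ^ p ^ i = U.1.1.ι.appTop (a false) ^ p ^ i := fun U =>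
    mk_eq_mk_iff.mp (h U.1 U.2)
  choose i hi using h'
  obtain ⟨k, hk⟩ := Finite.exists_le i
  refine mk_eq_mk_iff.mpr ⟨k, X.sheaf.eq_of_locally_eq' (fun U : s => U.1.1) ⊤ (fun U => homOfLE le_top) hs.ge _ _
    fun U => ?_⟩
  show X.presheaf.map _ _ = X.presheaf.map _ _
  have e : U.1.1.ι.appTop (a true) ^ p ^ k = U.1.1.ι.appTop (a false) ^ p ^ k := by
    rw [← Nat.add_sub_of_le (hk U), pow_add, pow_mul, pow_mul, hi U]
  rw [map_pow, map_pow, ← topIso_hom_appTop, ← topIso_hom_appTop, ← map_pow U.1.1.topIso.hom.hom,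
    ← map_pow U.1.1.topIso.hom.hom]
  exact congrArg _ e

theorem cover_mem {T : Over S} (R : Sieve T) {ι : Type*} (U : ι → T.left.Opens) (hU : ⨆ i, U i = ⊤)
    (h : ∀ i, R (Over.homMk (U i).ι : Over.mk ((U i).ι ≫ T.hom) ⟶ T)) :
    R ∈ QuotSh.J Scheme.zariskiPrecoverage S T := by
  show Sieve.overEquiv _ R ∈ Scheme.zariskiPrecoverage.toGrothendieck T.left
  let V : T.left → T.left.Opens := fun x =>
    U (TopologicalSpace.Opens.mem_iSup.mp (show x ∈ ⨆ i, U i by rw [hU]; trivial)).choose
  have hV : TopologicalSpace.IsOpenCover V := top_le_iff.mp fun x _ => TopologicalSpace.Opens.mem_iSup.mpr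
    ⟨x, (TopologicalSpace.Opens.mem_iSup.mp (show x ∈ ⨆ i, U i by rw [hU]; trivial)).choose_spec⟩
  refine GrothendieckTopology.superset_covering _
    ((Sieve.generate_le_iff _ _).mpr <| Presieve.ofArrows_le_iff.mpr fun x => ?_)
    (T.left.openCoverOfIsOpenCover V hV).mem_grothendieckTopology
  exact (Sieve.overEquiv_iff R _).2 (h _)

variable (p S) in
/-- The presheaf, valued one universe up. -/
abbrev Pp : (Over S)ᵒᵖ ⥤ Type (u + 1) := frobColimPresheaf p S ⋙ uliftFunctor.{u + 1, u}

variable (p S) in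
/-- Its sheafification. -/
noncomputable abbrev Fs : (Over S)ᵒᵖ ⥤ Type (u + 1) :=
  (QuotSh.J Scheme.zariskiPrecoverage S).sheafify (Pp p S)

variable (p S) in
noncomputable abbrev η : Pp p S ⟶ Fs p S := (QuotSh.J Scheme.zariskiPrecoverage S).toSheafify (Pp p S)

theorem isSheaf_Fs : Presieve.IsSheaf (QuotSh.J Scheme.zariskiPrecoverage S) (Fs p S) :=
  (isSheaf_iff_isSheaf_of_type _ _).mp (GrothendieckTopology.sheafify_isSheaf _ _)

theorem injective_η (hp : 0 < p) (T : Over S) [CompactSpace T.left] : Function.Injective ((η p S).app (op T)) := by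
  intro x y hxy
  have hmem := Presheaf.equalizerSieve_mem (QuotSh.J Scheme.zariskiPrecoverage S) (η p S) x y hxy
  obtain ⟨s, hs, hcov⟩ := exists_finite_affine_cover (fun U : T.left.affineOpens =>
    (Presheaf.equalizerSieve (F := Pp p S) (X := op T) x y) (Over.homMk U.1.ι : Over.mk (U.1.ι ≫ T.hom) ⟶ T)) (exists_affine_mem hmem)
  exact ULift.down_injective (eq_of_locally hp s hcov fun U hU => congrArg ULift.down (hs U hU))

theorem surjective_η (hp : 0 < p) (T : Over S) [CompactSpace T.left] [QuasiSeparatedSpace T.left] :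
    Function.Surjective ((η p S).app (op T)) := by
  intro c
  have hmem := Presheaf.imageSieve_mem (QuotSh.J Scheme.zariskiPrecoverage S) (η p S) c
  obtain ⟨s, hs, hcov⟩ := exists_finite_affine_cover (fun U : T.left.affineOpens =>
    (Presheaf.imageSieve (η p S) (U := T) c) (Over.homMk U.1.ι : Over.mk (U.1.ι ≫ T.hom) ⟶ T)) (exists_affine_mem hmem)
  choose x hx using fun U : s => hs U.1 U.2
  obtain ⟨N, a, ha⟩ := exists_common (fun U : s => (x U).down)
  have hover : ∀ U V : s, ∃ i : ℕ,
      (T.left.homOfLE (inf_le_left : U.1.1 ⊓ V.1.1 ≤ U.1.1)).appTop (a U) ^ p ^ i =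
        (T.left.homOfLE (inf_le_right : U.1.1 ⊓ V.1.1 ≤ V.1.1)).appTop (a V) ^ p ^ i := fun U V => by
    let W : Over S := Over.mk ((U.1.1 ⊓ V.1.1).ι ≫ T.hom)
    haveI : CompactSpace W.left := isCompact_iff_compactSpace.mp
      (QuasiSeparatedSpace.inter_isCompact _ _ U.1.1.2 U.1.2.isCompact V.1.1.2 V.1.2.isCompact)
    let l₁ : W ⟶ Over.mk (U.1.1.ι ≫ T.hom) := Over.homMk (T.left.homOfLE inf_le_left) (by simp [W])
    let l₂ : W ⟶ Over.mk (V.1.1.ι ≫ T.hom) := Over.homMk (T.left.homOfLE inf_le_right) (by simp [W])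
    have e : (Pp p S).map l₁.op (x U) = (Pp p S).map l₂.op (x V) := by
      apply injective_η hp W
      rw [NatTrans.naturality_apply, NatTrans.naturality_apply, hx U, hx V, ← Functor.map_comp_apply,
        ← Functor.map_comp_apply, ← op_comp, ← op_comp]
      congr 3
      refine congrArg Quiver.Hom.op ?_
      exact Over.OverMorphism.ext ((Scheme.homOfLE_ι T.left (inf_le_left : U.1.1 ⊓ V.1.1 ≤ U.1.1)).trans
        (Scheme.homOfLE_ι T.left (inf_le_right : U.1.1 ⊓ V.1.1 ≤ V.1.1)).symm)
    have e' : FrobColimSections.map p (T.left.homOfLE inf_le_left) (x U).down =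
        FrobColimSections.map p (T.left.homOfLE inf_le_right) (x V).down := congrArg ULift.down e
    rw [← ha U, ← ha V, FrobColimSections.map_mk, FrobColimSections.map_mk] at e'
    exact mk_eq_mk_iff.mp e'
  choose i hi using hover
  obtain ⟨k, hk⟩ := Finite.exists_le fun UV : s × s => i UV.1 UV.2
  let b : ∀ U : s, Γ(T.left, U.1.1) := fun U => U.1.1.topIso.hom (a U ^ p ^ k)
  have hres : ∀ (U W : T.left.Opens) (hle : W ≤ U) (z : Γ(U, ⊤)),
      T.left.presheaf.map (homOfLE hle).op (U.topIso.hom z) = W.topIso.hom ((T.left.homOfLE hle).appTop z) := by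
    intro U W hle z
    rw [Scheme.homOfLE_appTop]
    simp only [Scheme.Opens.topIso, Functor.mapIso_hom, ← CommRingCat.comp_apply, ← Functor.map_comp]
    rfl
  have hcompat : TopCat.Presheaf.IsCompatible T.left.presheaf (fun U : s => U.1.1) b := fun U V => by
    show T.left.presheaf.map (homOfLE inf_le_left).op _ = T.left.presheaf.map (homOfLE inf_le_right).op _
    rw [hres, hres]
    congr 1
    rw [map_pow, map_pow, ← Nat.add_sub_of_le (show i U V ≤ k from hk (U, V)), pow_add, pow_mul, pow_mul, hi U V]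
  obtain ⟨g, hg, -⟩ := T.left.sheaf.existsUnique_gluing' (fun U : s => U.1.1) ⊤ (fun U => homOfLE le_top) hcov.ge b hcompat
  refine ⟨⟨FrobColimSections.mk p (N + k) g⟩, ?_⟩
  refine ((isSheaf_Fs (p := p) (S := S)) _ (cover_mem (Presheaf.equalizerSieve (F := Fs p S) (X := op T) _ c)
    (fun U : s => U.1.1) hcov fun U => ?_)).isSeparatedFor.ext fun Z l hl => hl
  show (Fs p S).map _ _ = (Fs p S).map _ c
  rw [← hx U, ← NatTrans.naturality_apply]
  congr 1
  refine ULift.ext _ _ ?_
  show FrobColimSections.map p U.1.1.ι (FrobColimSections.mk p (N + k) g) = (x U).down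
  rw [← ha U, FrobColimSections.map_mk, mk_add N k (a U)]
  congr 1
  have h1 : U.1.1.topIso.hom (U.1.1.ι.appTop g) = b U := by rw [topIso_hom_appTop]; exact hg U
  exact (ConcreteCategory.bijective_of_isIso U.1.1.topIso.hom).1 h1

theorem natCast_eq_zero {T : Over S} (hS : (p : Γ(S, ⊤)) = 0) : (p : Γ(T.left, ⊤)) = 0 := by
  rw [← map_natCast T.hom.appTop.hom, hS, map_zero]

theorem isSheafFor_proper (hp : p.Prime) (hS : (p : Γ(S, ⊤)) = 0) (U V : Over S) (f : V ⟶ U) [IsAffine U.left]
    [IsProper f.left] [Surjective f.left] : Presieve.IsSheafFor (Fs p S) (Presieve.singleton f) := by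
  haveI : CompactSpace V.left := QuasiCompact.compactSpace_of_compactSpace f.left
  haveI : QuasiSeparatedSpace V.left := quasiSeparatedSpace_of_quasiSeparated f.left
  rw [Presieve.isSheafFor_singleton]
  intro s hcomp
  obtain ⟨⟨x⟩, rfl⟩ := surjective_η hp.pos V s
  obtain ⟨⟨n, a⟩, rfl⟩ := Quot.mk_surjective x
  let W : Over S := Over.mk (pullback.fst f.left f.left ≫ V.hom)
  haveI : CompactSpace W.left := QuasiCompact.compactSpace_of_compactSpace (pullback.fst f.left f.left)
  let p₁ : W ⟶ V := Over.homMk (pullback.fst f.left f.left) rfl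
  let p₂ : W ⟶ V := Over.homMk (pullback.snd f.left f.left) (by
    show pullback.snd f.left f.left ≫ V.hom = pullback.fst f.left f.left ≫ V.hom
    rw [← Over.w f, pullback.condition_assoc])
  have e := hcomp p₁ p₂ (Over.OverMorphism.ext pullback.condition)
  rw [← NatTrans.naturality_apply, ← NatTrans.naturality_apply] at e
  have e' : FrobColimSections.mk p n ((pullback.fst f.left f.left).appTop a) =
      FrobColimSections.mk p n ((pullback.snd f.left f.left).appTop a) := congrArg ULift.down (injective_η hp.pos W e)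
  obtain ⟨k, hk⟩ := mk_eq_mk_iff.mp e'
  rw [← map_pow, ← map_pow] at hk
  obtain ⟨N, b, hb⟩ := exists_descend f.left hp (natCast_eq_zero hS) (a ^ p ^ k) hk
  refine ⟨(η p S).app (op U) ⟨FrobColimSections.mk p (n + (k + N)) b⟩, ?_, fun y hy => ?_⟩
  · show (Fs p S).map f.op _ = _
    rw [← NatTrans.naturality_apply]
    congr 1
    refine ULift.ext _ _ ?_
    show FrobColimSections.mk p (n + (k + N)) (f.left.appTop b) = FrobColimSections.mk p n a
    rw [hb, ← pow_mul, ← pow_add, ← mk_add]
  · obtain ⟨⟨z⟩, rfl⟩ := surjective_η hp.pos U y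
    obtain ⟨⟨m, c⟩, rfl⟩ := Quot.mk_surjective z
    rw [← NatTrans.naturality_apply] at hy
    have hy' : FrobColimSections.mk p m (f.left.appTop c) = FrobColimSections.mk p n a :=
      congrArg ULift.down (injective_η hp.pos V hy)
    congr 1
    refine ULift.ext _ _ ?_
    show FrobColimSections.mk p m c = FrobColimSections.mk p (n + (k + N)) b
    have e1 : FrobColimSections.mk p m (f.left.appTop c) = FrobColimSections.mk p (n + (k + N)) (f.left.appTop b) := by
      rw [hy', hb, ← pow_mul, ← pow_add, ← mk_add]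
    obtain ⟨i, j, hij, hpow⟩ := mk_eq_iff.mp e1
    rw [mk_add m i, mk_add (n + (k + N)) j, hij]
    refine mk_eq_mk_iff.mpr ?_
    refine pow_p_eq_of_isNilpotent_sub hp (natCast_eq_zero hS) (isNilpotent_of_appTop_eq_zero f.left _ ?_)
    rw [map_sub, map_pow, map_pow, sub_eq_zero]
    exact hpow

theorem main (hp : p.Prime) (hS : (p : Γ(S, ⊤)) = 0) :
    Presheaf.IsSheaf (HTop.Jh S) (Fs p S) ∧
      ∀ (X : Over S) [CompactSpace X.left] [QuasiSeparatedSpace X.left], Function.Bijective ((η p S).app (op X)) := by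
  refine ⟨(isSheaf_iff_isSheaf_of_type _ _).mpr (HTopCov.OverCrit.isSheaf_Jh isSheaf_Fs
    fun U V f hU hpr hsu _ => ?_), fun X _ _ => ⟨injective_η hp.pos X, surjective_η hp.pos X⟩⟩
  haveI := hU; haveI := hpr; haveI := hsu
  exact isSheafFor_proper hp hS U V f

end Groth.Agent.HTopFrob
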